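import Groth.Agent.Lib.BlowUp.EffCartier
import Mathlib.RingTheory.Valuation.LocalSubring

/-!
Valuation ring valued points detecting sections, and pull-back of ideal sheaves along them.
-/

universe u

open CategoryTheory AlgebraicGeometry Scheme IsLocalRing

namespace GrothLib.ValPoint

variable {X : Scheme.{u}}

lemma appLE_specMap_fromSpec {R : CommRingCat.{u}} {U : X.Opens} (hU : IsAffineOpen U)
    (φ : Γ(X, U) ⟶ R) (h : (⊤ : (Spec R).Opens) ≤ (Spec.map φ ≫ hU.fromSpec) ⁻¹ᵁ U) :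
    (Spec.map φ ≫ hU.fromSpec).appLE U ⊤ h = φ ≫ (Scheme.ΓSpecIso R).inv := by
  have h0 : (⊤ : (Spec Γ(X, U)).Opens) ≤ hU.fromSpec ⁻¹ᵁ U := by rw [hU.fromSpec_preimage_self]
  rw [← Hom.appLE_comp_appLE (Spec.map φ) hU.fromSpec U ⊤ ⊤ h0 le_top, Scheme.ΓSpecIso_inv_naturality]
  have e1 : hU.fromSpec.appLE U ⊤ h0 = (Scheme.ΓSpecIso Γ(X, U)).inv := by
    rw [Hom.appLE, hU.fromSpec_app_self, Category.assoc, ← Functor.map_comp]
    simp
  rw [e1]
  congr 1

lemma ideal_comap_specMap_fromSpec (I : X.IdealSheafData) {R : CommRingCat.{u}} (U : X.affineOpens)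
    (φ : Γ(X, U.1) ⟶ R) :
    (I.comap (Spec.map φ ≫ U.2.fromSpec)).ideal ⟨⊤, isAffineOpen_top _⟩ =
      ((I.ideal U).map φ.hom).map (Scheme.ΓSpecIso R).inv.hom := by
  have h : (⊤ : (Spec R).Opens) ≤ (Spec.map φ ≫ U.2.fromSpec) ⁻¹ᵁ U.1 := fun z _ ↦
    U.2.range_fromSpec.le ⟨_, rfl⟩
  rw [GrothLib.BlowUp.ideal_comap_eq_map I _ U ⟨⊤, isAffineOpen_top _⟩ h,
    appLE_specMap_fromSpec U.2 φ h, Ideal.map_map]
  rfl

lemma inv_injective (R : CommRingCat.{u}) : Function.Injective (Scheme.ΓSpecIso R).inv.hom :=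
  (ConcreteCategory.bijective_of_isIso (Scheme.ΓSpecIso R).inv).1

lemma comap_eq_comap_iff (I J : X.IdealSheafData) {R : CommRingCat.{u}} (U : X.affineOpens)
    (φ : Γ(X, U.1) ⟶ R) :
    I.comap (Spec.map φ ≫ U.2.fromSpec) = J.comap (Spec.map φ ≫ U.2.fromSpec) ↔
      (I.ideal U).map φ.hom = (J.ideal U).map φ.hom := by
  refine ⟨fun h ↦ ?_, fun h ↦ IdealSheafData.ext_of_isAffine ?_⟩
  · have h1 := congrArg (fun K : (Spec R).IdealSheafData ↦ K.ideal ⟨⊤, isAffineOpen_top _⟩) h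
    simp only [ideal_comap_specMap_fromSpec] at h1
    have hbij := ConcreteCategory.bijective_of_isIso (Scheme.ΓSpecIso R).inv
    have h2 := congrArg (Ideal.comap (Scheme.ΓSpecIso R).inv.hom) h1
    rwa [Ideal.comap_map_of_bijective _ hbij, Ideal.comap_map_of_bijective _ hbij] at h2
  · rw [ideal_comap_specMap_fromSpec, ideal_comap_specMap_fromSpec, h]

lemma isEffCartierIdeal_comap_of_ne_zero (I : X.IdealSheafData) {R : Type u} [CommRing R] [IsDomain R]
    (U : X.affineOpens) (φ : Γ(X, U.1) ⟶ .of R) {a : Γ(X, U.1)} (hI : I.ideal U = Ideal.span {a})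
    (ha : φ.hom a ≠ 0) : _root_.BlowUp.IsEffCartierIdeal (I.comap (Spec.map φ ≫ U.2.fromSpec)) := by
  intro z
  refine ⟨⟨⊤, isAffineOpen_top _⟩, trivial, (Scheme.ΓSpecIso (.of R)).inv.hom (φ.hom a), ?_, ?_⟩
  · exact GrothLib.BlowUp.mem_nonZeroDivisors_of_flat _ (RingHom.Flat.of_bijective
      (ConcreteCategory.bijective_of_isIso (Scheme.ΓSpecIso (.of R)).inv))
      (mem_nonZeroDivisors_of_ne_zero ha)
  · rw [ideal_comap_specMap_fromSpec, hI, Ideal.map_span, Set.image_singleton, Ideal.map_span,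
      Set.image_singleton]

lemma mem_support_comap_iff (I : X.IdealSheafData) {R : CommRingCat.{u}} (U : X.affineOpens)
    (φ : Γ(X, U.1) ⟶ R) {a : Γ(X, U.1)} (hI : I.ideal U = Ideal.span {a}) (z : Spec R) :
    z ∈ (I.comap (Spec.map φ ≫ U.2.fromSpec)).support ↔ φ.hom a ∈ z.asIdeal := by
  rw [IdealSheafData.mem_support_iff_of_mem (U := ⟨⊤, isAffineOpen_top _⟩) trivial,
    ideal_comap_specMap_fromSpec, hI, Ideal.map_span, Set.image_singleton, Ideal.map_span,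
    Set.image_singleton, Scheme.zeroLocus_span, Scheme.mem_zeroLocus_iff]
  simp only [Set.mem_singleton_iff, forall_eq]
  rw [basicOpen_eq_of_affine]
  exact not_not

/-- A valuation ring valued point detecting a nonzerodivisor which is not a unit at `x`. -/
lemma exists_valuation_detecting (U : X.affineOpens) (x : X) (hx : x ∈ U.1) {a : Γ(X, U.1)}
    (ha : a ∈ nonZeroDivisors Γ(X, U.1)) (hau : ¬ IsUnit ((X.presheaf.germ U.1 x hx).hom a)) :
    ∃ (R : Type u) (_ : CommRing R) (_ : IsDomain R) (_ : ValuationRing R) (φ : Γ(X, U.1) ⟶ .of R),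
      φ.hom a ≠ 0 ∧ (∀ c, ¬ IsUnit ((X.presheaf.germ U.1 x hx).hom c) → ¬ IsUnit (φ.hom c)) ∧
      ∀ P : Ideal R, P.IsPrime → (φ.hom a ∈ P ↔ P ≠ ⊥) := by
  let O := X.presheaf.stalk x
  let g := (X.presheaf.germ U.1 x hx).hom
  let _ := TopCat.Presheaf.algebra_section_stalk X.presheaf (⟨x, hx⟩ : U.1)
  have := U.2.isLocalization_stalk ⟨x, hx⟩
  have hga : g a ∈ nonZeroDivisors O :=
    IsLocalization.nonZeroDivisors_le_comap (U.2.primeIdealOf ⟨x, hx⟩).asIdeal.primeCompl O ha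
  obtain ⟨q, hq, hqa⟩ : ∃ q : Ideal O, q.IsPrime ∧ g a ∉ q := by
    by_contra! h
    obtain ⟨n, hn⟩ : g a ∈ nilradical O := by
      rw [nilradical_eq_sInf]
      exact Ideal.mem_sInf.mpr fun {q} hq ↦ h q hq
    exact nonZeroDivisors.ne_zero (pow_mem hga n) hn
  let K := FractionRing (O ⧸ q)
  obtain ⟨A, hA, hl⟩ := exists_factor_valuationRing (R := O) (K := K)
    ((algebraMap (O ⧸ q) K).comp (Ideal.Quotient.mk q))
  let χ : O →+* A := (((algebraMap (O ⧸ q) K).comp (Ideal.Quotient.mk q))).codRestrict A.toSubring hA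
  have : IsLocalHom χ := hl
  have hr0 : χ (g a) ≠ 0 := fun h ↦ hqa (Ideal.Quotient.eq_zero_iff_mem.mp
    ((IsFractionRing.injective (O ⧸ q) K).eq_iff' (map_zero _) |>.mp (congrArg Subtype.val h)))
  have hru : ¬ IsUnit (χ (g a)) := fun h ↦ hau (isUnit_of_map_unit χ _ h)
  set r := χ (g a)
  let P₀ : Ideal A := ⨅ n : ℕ, Ideal.span {r ^ n}
  have hrP : r ∉ P₀ := fun h ↦ by
    obtain ⟨c, hc⟩ := Ideal.mem_span_singleton.mp ((Ideal.mem_iInf.mp h) 2)
    refine hru (isUnit_iff_exists_inv.mpr ⟨c, mul_left_cancel₀ hr0 ?_⟩)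
    rw [mul_one, ← mul_assoc, ← sq, ← hc]
  have hP₀ : P₀.IsPrime := by
    refine ⟨fun h ↦ hrP (h ▸ trivial), fun {s t} hst ↦ ?_⟩
    by_contra! hcon
    simp only [P₀, Ideal.mem_iInf, not_forall] at hcon
    obtain ⟨⟨m, hm⟩, n, hn⟩ := hcon
    have hs : s ∣ r ^ m := (ValuationRing.dvd_total s (r ^ m)).resolve_right
      fun h ↦ hm (Ideal.mem_span_singleton.mpr h)
    have ht : t ∣ r ^ n := (ValuationRing.dvd_total t (r ^ n)).resolve_right
      fun h ↦ hn (Ideal.mem_span_singleton.mpr h)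
    have h1 : r ^ (m + n + 1) ∣ s * t := Ideal.mem_span_singleton.mp ((Ideal.mem_iInf.mp hst) _)
    obtain ⟨c, hc⟩ := h1.trans (mul_dvd_mul hs ht)
    refine hru (isUnit_iff_exists_inv.mpr ⟨c, mul_left_cancel₀ (pow_ne_zero (m + n) hr0) ?_⟩)
    rw [← mul_assoc, ← pow_succ, mul_one, ← hc, pow_add]
  have : PreValuationRing (A ⧸ P₀) :=
    Function.Surjective.preValuationRing (Ideal.Quotient.mk P₀).toMonoidHom.toMulHom
      Ideal.Quotient.mk_surjective
  let φ : Γ(X, U.1) ⟶ .of (A ⧸ P₀) := CommRingCat.ofHom ((Ideal.Quotient.mk P₀).comp (χ.comp g))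
  refine ⟨A ⧸ P₀, inferInstance, inferInstance, {}, φ, ?_, fun c hc hu ↦ ?_, fun P hP ↦ ?_⟩
  · exact fun h ↦ hrP (Ideal.Quotient.eq_zero_iff_mem.mp h)
  · have h1 : IsUnit (χ (g c)) :=
      (IsLocalHom.of_surjective (Ideal.Quotient.mk P₀) Ideal.Quotient.mk_surjective).map_nonunit _ hu
    exact hc (isUnit_of_map_unit χ _ h1)
  · refine ⟨fun h hb ↦ hrP (Ideal.Quotient.eq_zero_iff_mem.mp
      ((Submodule.mem_bot (R := A ⧸ P₀)).mp (hb ▸ h))), fun hne ↦ ?_⟩
    by_contra h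
    refine hne (eq_bot_iff.mpr fun s hs ↦ ?_)
    obtain ⟨s, rfl⟩ := Ideal.Quotient.mk_surjective s
    rw [Submodule.mem_bot, Ideal.Quotient.eq_zero_iff_mem, Ideal.mem_iInf]
    intro n
    rcases ValuationRing.dvd_total (r ^ n) s with h1 | ⟨c, hc⟩
    · exact Ideal.mem_span_singleton.mpr h1
    · refine absurd (hP.mem_of_pow_mem n ?_) h
      show (φ.hom a) ^ n ∈ P
      show (Ideal.Quotient.mk P₀ r) ^ n ∈ P
      rw [← map_pow, hc, map_mul]
      exact P.mul_mem_right _ hs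

end GrothLib.ValPoint
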